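import Groth.Agent.MumBound.Core
import Groth.Agent.Intersect.Snapper
import Groth.Agent.S10829

/-!
The Euler characteristic of the twists is a polynomial in all integers.
-/

set_option autoImplicit false
set_option linter.style.haveILetI false
set_option backward.isDefEq.respectTransparency false
set_option backward.isDefEq.respectTransparency.types false
set_option maxHeartbeats 1000000

universe u

open CategoryTheory CategoryTheory.Limits AlgebraicGeometry

noncomputable section

namespace Groth.Agent.MumBound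

variable {k : Type u} [Field k] {n : ℕ}

theorem exists_poly_nat {M : (CohB1.ProjSpace n k).Modules} (hM : Coh.IsCoh M) :
    ∃ Q : Polynomial ℚ, ∀ t : ℕ,
      (Curv2.euler k (CohB1.ProjSpace n k) (tw M t) : ℚ) = Q.eval (t : ℚ) := by
  haveI := CohFinite.isNoetherian_projSpace n k
  have hdim := Groth.Agent.S10829.result k n
  obtain ⟨P, -, hP⟩ := Intersect.exists_polynomial (k := k) (r := 1) hM (D := n + 1)
    (lt_of_le_of_lt (Topology.IsInducing.subtypeVal.topologicalKrullDim_le)
      (by rw [hdim]; exact_mod_cast Nat.lt_succ_self n))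
    (L := fun _ => PnReg.Ot k n 1) (fun _ => CohFinite.isInvertible_twist n k 1)
  refine ⟨MvPolynomial.aeval (fun _ : Fin 1 => (Polynomial.X : Polynomial ℚ)) P, fun t => ?_⟩
  obtain ⟨e⟩ := GrT.nonempty_iso_tensorPow (𝒜 := CohB1.polyGrading n k) (CohFinite.cov_one n k) t
  have h1 : Curv2.euler k (CohB1.ProjSpace n k) (tw M t) =
      Curv2.euler k (CohB1.ProjSpace n k) (Curv2.tensorPows M 1 (fun _ => PnReg.Ot k n 1) (fun _ => t)) :=
    CurveRR.euler_eq_of_iso (PicGrp.tensorModIso (Iso.refl M) e)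
  rw [h1, hP]
  clear hP
  induction P using MvPolynomial.induction_on with
  | C c => simp
  | add p q hp hq => simp_all
  | mul_X p i hp => simp_all

/-- A polynomial giving the Euler characteristics of the nonnegative twists gives all of them. -/
theorem euler_eq_eval {M : (CohB1.ProjSpace n k).Modules} (hM : Coh.IsCoh M) (P : Polynomial ℚ)
    (hP : ∀ t : ℕ, (Curv2.euler k (CohB1.ProjSpace n k) (tw M t) : ℚ) = P.eval (t : ℚ)) (t : ℤ) :
    (Curv2.euler k (CohB1.ProjSpace n k) (tw M t) : ℚ) = P.eval (t : ℚ) := by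
  rcases le_or_gt 0 t with h | h
  · obtain ⟨m, rfl⟩ : ∃ m : ℕ, t = (m : ℤ) := ⟨t.toNat, by omega⟩
    exact_mod_cast hP m
  obtain ⟨s, rfl⟩ : ∃ s : ℕ, t = -(s : ℤ) := ⟨(-t).toNat, by omega⟩
  obtain ⟨Q, hQ⟩ := exists_poly_nat (isCoh_tw hM (-(s : ℤ)))
  have key : ∀ (j : ℕ), (Curv2.euler k (CohB1.ProjSpace n k) (tw (tw M (-(s : ℤ))) j) : ℚ) =
      Curv2.euler k (CohB1.ProjSpace n k) (tw M (-(s : ℤ) + j)) := fun j => by
    obtain ⟨e⟩ := PnReg.nonempty_twistF M (-(s : ℤ)) j (-(s : ℤ) + j) rfl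
    rw [CurveRR.euler_eq_of_iso e]
  have hQP : Q = P.comp (Polynomial.X - Polynomial.C (s : ℚ)) := by
    refine Polynomial.eq_of_infinite_eval_eq _ _
      ((Set.infinite_range_of_injective (f := fun j : ℕ => ((s + j : ℕ) : ℚ)) fun a b hab => by
        simpa using hab).mono ?_)
    rintro _ ⟨j, rfl⟩
    show Q.eval ((s + j : ℕ) : ℚ) = _
    rw [← hQ, key, show -(s : ℤ) + ((s + j : ℕ) : ℤ) = (j : ℤ) by push_cast; ring, hP]
    simp [Polynomial.eval_comp]
  have h0 := key 0
  rw [hQ, hQP] at h0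
  simpa [Polynomial.eval_comp] using h0.symm

end Groth.Agent.MumBound
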