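import Groth.Agent.MumBound.Core

/-!
Mumford's bound for the regularity of kernels of quotients of free modules, over infinite fields.
-/

set_option autoImplicit false
set_option linter.unusedSectionVars false
set_option linter.style.haveILetI false
set_option backward.isDefEq.respectTransparency false
set_option backward.isDefEq.respectTransparency.types false
set_option maxHeartbeats 1000000

universe u

open CategoryTheory CategoryTheory.Limits AlgebraicGeometry TopologicalSpace Opposite
open Groth.Agent Groth.Agent.CohFinite Groth.Agent.RegKos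

noncomputable section

namespace Groth.Agent.MumBound

variable {k : Type u} [Field k] {n : ℕ}

local notation "PS" => CohB1.ProjSpace n k

theorem isZero_of_generated {F : (CohB1.ProjSpace n k).Modules} (hF : Coh.IsQCoh F) (hreg : PnReg.Reg F 0)
    (h : Subsingleton Γ(F, ⊤)) : IsZero F := by
  refine GrT.isZero_modules_of_subsingleton fun U s => Groth.Agent.QC.section_eq_of_locally fun x hx => ?_
  obtain ⟨V, hV, hxV, hmem⟩ := PnReg.generated_of_reg F hF hreg s hx
  refine ⟨V, hV, hxV, ?_⟩
  rw [map_zero]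
  have h0 : Set.range (fun g : Γ(F, ⊤) => Groth.Agent.QC.res F (le_top : V ≤ ⊤) g) ⊆ {0} := by
    rintro _ ⟨g, rfl⟩
    show Groth.Agent.QC.res F (le_top : V ≤ ⊤) g = 0
    rw [show g = 0 from Subsingleton.elim _ _, map_zero]
  exact (Submodule.span_eq_bot.2 fun y hy => h0 hy).le hmem

/-- A coherent module with zero Hilbert polynomial is zero. -/
theorem isZero_of_euler_zero {F : (CohB1.ProjSpace n k).Modules} (hF : Coh.IsCoh F)
    (hP : ∀ t : ℤ, Curv2.euler k (CohB1.ProjSpace n k) (tw F t) = 0) : IsZero F := by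
  obtain ⟨T, hT⟩ := eventually_vanish hF
  let M : ℕ := T + n + 1
  have hreg : PnReg.Reg F (M : ℤ) := fun q hq => by
    rcases le_or_gt q n with h | h
    · exact hT _ (by omega) q hq
    · exact PnReg.hh_above _ (isCoh_tw hF _).1 q h
  have hz : Subsingleton Γ(tw F M, ⊤) := by
    have h1 := hP M
    rw [CurveRR.euler_eq_sum (tw F M) 1 fun i hi => hT M (by omega) i hi] at h1
    simp at h1
    haveI := CohFinite.finite_proper k PS _ (isCoh_tw hF M) 0
    haveI : Subsingleton (Coh.HH PS (tw F M) 0) := Module.finrank_zero_iff.1 (by simpa using h1)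
    exact (sec0 (tw F M)).symm.injective.subsingleton
  have hz' : IsZero (tw F M) := isZero_of_generated (isCoh_tw hF M).1
    (by simpa using PnReg.reg_twist hreg (M : ℤ)) hz
  obtain ⟨e⟩ := PnReg.nonempty_twistF F (M : ℤ) (-M) 0 (by ring)
  obtain ⟨e'⟩ := PnReg.nonempty_twistF_zero F
  refine IsZero.of_iso ?_ (e ≪≫ e').symm
  exact (IsZero.iff_id_eq_zero _).2 (by rw [← tmap_id, (IsZero.iff_id_eq_zero _).1 hz', tmap_zero])

theorem sub_comp_lt (P : Polynomial ℚ) {d : ℕ} (h : P = 0 ∨ P.natDegree < d + 1) :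
    P - P.comp (Polynomial.X - Polynomial.C 1) = 0 ∨
      (P - P.comp (Polynomial.X - Polynomial.C 1)).natDegree < d := by
  set Q := P.comp (Polynomial.X - Polynomial.C 1) with hQ
  by_cases hz : P - Q = 0
  · exact Or.inl hz
  refine Or.inr ?_
  have hP0 : P ≠ 0 := fun hc => hz (by rw [hQ, hc, Polynomial.zero_comp, sub_zero])
  have hQ0 : Q ≠ 0 := fun hc => hP0 (by
    have := congrArg (fun q => q.comp (Polynomial.X + Polynomial.C 1)) hc
    simpa [hQ, Polynomial.comp_assoc] using this)
  have hdeg : Q.natDegree = P.natDegree := by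
    rw [hQ, Polynomial.natDegree_comp, Polynomial.natDegree_X_sub_C, mul_one]
  have hdeg' : P.degree = Q.degree := by
    rw [Polynomial.degree_eq_natDegree hP0, Polynomial.degree_eq_natDegree hQ0, hdeg]
  have hlc : P.leadingCoeff = Q.leadingCoeff := by
    rw [hQ, Polynomial.leadingCoeff_comp (by rw [Polynomial.natDegree_X_sub_C]; exact one_ne_zero),
      Polynomial.leadingCoeff_X_sub_C, one_pow, mul_one]
  have hlt := Polynomial.natDegree_lt_natDegree hz (Polynomial.degree_sub_lt_left hdeg' hP0 hlc)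
  have := h.resolve_left hP0
  omega

/-- Mumford's bound over infinite fields, uniformly in the field. -/
theorem exists_bound (n r : ℕ) : ∀ (d : ℕ) (P : Polynomial ℚ), (P = 0 ∨ P.natDegree < d) →
    ∃ m : ℕ, ∀ (k : Type u) [Field k] [Infinite k] (F : (CohB1.ProjSpace n k).Modules)
      (φ : FlatMod.freeMod (CohB1.ProjSpace n k) r ⟶ F), Coh.IsCoh F → Epi φ →
      (∀ t : ℤ, (Curv2.euler k (CohB1.ProjSpace n k) (tw F t) : ℚ) = P.eval (t : ℚ)) →
      PnReg.Reg (kernel φ) (m : ℤ)
  | 0, P, h => by
    obtain rfl : P = 0 := h.resolve_right (by omega)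
    refine ⟨0, fun k _ _ F φ hF _ hP => ?_⟩
    have hz : IsZero F := isZero_of_euler_zero hF fun t => by simpa using hP t
    have hφ : φ = 0 := hz.eq_of_tgt _ _
    subst hφ
    exact PnReg.reg_of_iso kernelZeroIsoSource.symm (by simpa using reg_free (k := k) (n := n) r)
  | d + 1, P, h => by
    obtain ⟨m, hm⟩ := exists_bound n r d _ (sub_comp_lt P h)
    refine ⟨m + ⌈P.eval (m : ℚ)⌉.toNat + 1, fun k _ _ F φ hF hφ hP => ?_⟩
    obtain ⟨a, ha⟩ := exists_mono_mulR k n hF
    haveI := ha
    haveI := hφ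
    haveI := CohFinite.isNoetherian_projSpace n k
    refine reg_kernel φ hF a ?_ P hP
    let E := FlatMod.freeMod (CohB1.ProjSpace n k) r
    have hQ : Coh.IsCoh (cokernel (mulR a F)) := Groth.Agent.QC.isCoh_cokernel hF.1 (isCoh_tw hF 1) _
    have hT : (ShortComplex.mk (kernel.ι (theta φ a)) (theta φ a) (kernel.condition _)).ShortExact :=
      { exact := ShortComplex.exact_of_f_is_kernel _ (kernelIsKernel _),
        epi_g := inferInstanceAs (Epi (theta φ a)) }
    have hT' := twSeq hT (-1)
    obtain ⟨e₁⟩ := PnReg.nonempty_twistF E 1 (-1) 0 (by ring)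
    obtain ⟨e₀⟩ := PnReg.nonempty_twistF_zero E
    let φ' : E ⟶ tw (cokernel (mulR a F)) (-1) := (e₁ ≪≫ e₀).inv ≫ twm (theta φ a) (-1)
    haveI : Epi (twm (theta φ a) (-1)) := hT'.epi_g
    haveI : Epi φ' := epi_comp _ _
    have hk := hm k _ φ' (isCoh_tw hQ (-1)) inferInstance (fun t => by
      obtain ⟨e₂⟩ := PnReg.nonempty_twistF F 1 (t - 1) t (by ring)
      obtain ⟨e₃⟩ := PnReg.nonempty_twistF (cokernel (mulR a F)) (-1) t (t - 1) (by ring)
      have hC : (ShortComplex.mk (mulR a F) (cokernel.π (mulR a F)) (cokernel.condition _)).ShortExact :=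
        { exact := ShortComplex.exact_cokernel _, mono_f := ha,
          epi_g := inferInstanceAs (Epi (cokernel.π _)) }
      have hadd := CurveRR.euler_add (k := k) (twSeq hC (t - 1)) (isCoh_tw hF _) (isCoh_tw (isCoh_tw hF 1) _)
        (isCoh_tw hQ _)
      change Curv2.euler k _ (tw (tw F 1) (t - 1)) =
        Curv2.euler k _ (tw F (t - 1)) + Curv2.euler k _ (tw (cokernel (mulR a F)) (t - 1)) at hadd
      rw [CurveRR.euler_eq_of_iso e₂] at hadd
      rw [show Curv2.euler k _ (tw (tw (cokernel (mulR a F)) (-1)) t) =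
          Curv2.euler k _ (tw (cokernel (mulR a F)) (t - 1)) from CurveRR.euler_eq_of_iso e₃]
      have h1 := congrArg (fun z : ℤ => (z : ℚ)) hadd
      push_cast at h1
      rw [hP, hP] at h1
      push_cast at h1
      simp [Polynomial.eval_comp]
      linarith)
    let e : kernel φ' ≅ tw (kernel (theta φ a)) (-1) :=
      kernelIsIsoComp (e₁ ≪≫ e₀).inv (twm (theta φ a) (-1)) ≪≫
        (limit.isLimit _).conePointUniqueUpToIso hT'.fIsKernel
    have h1 := PnReg.reg_of_twist (PnReg.reg_of_iso e hk)
    have h2 := PnReg.reg_add (isCoh_kerTheta φ hF a).1 h1 1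
    simpa using h2

end Groth.Agent.MumBound
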