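import Groth.Agent.PnReg.Ring
import Groth.Agent.SecAvoid.Basic
import Groth.Agent.NegTwist.Apps
import Groth.Agent.S1576

/-!
Multiplication by a linear form: naturality, injectivity off the associated points, existence over
infinite fields.
-/

set_option autoImplicit false
set_option linter.style.haveILetI false
set_option backward.isDefEq.respectTransparency false
set_option backward.isDefEq.respectTransparency.types false

universe u

open CategoryTheory CategoryTheory.Limits AlgebraicGeometry TopologicalSpace Opposite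
open Groth.Agent.QC (res res_res app_res)
open Groth.Agent.RegKos TMul

noncomputable section

namespace Groth.Agent.MumBound

variable {X : Scheme.{u}} {L : X.Modules} (a : Γ(L, ⊤))

/-- Multiplication by a section is natural. -/
theorem mulR_natural {M N : X.Modules} (f : M ⟶ N) : mulR a M ≫ CohFinite.tmap f L = f ≫ mulR a N := by
  refine Scheme.Modules.hom_ext _ _ fun U => ?_
  ext m
  show (CohFinite.tmap f L).app U ((mulR a M).app U m) = (mulR a N).app U (f.app U m)
  rw [mulR_app, mulR_app, CohFinite.tmap_tm]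

/-- Multiplication by a section generating at the associated points is injective. -/
theorem mono_mulR {M : X.Modules} (hM : Coh.IsQCoh M)
    (h : ∀ y : X, Curv2.IsWeakAssPoint M y → ∃ D : X.Opens, y ∈ D ∧ IsGen (res L (le_top : D ≤ ⊤) a)) :
    Mono (mulR a M) := by
  refine NegTwist.mono_of_app_injective _ fun W => ?_
  rw [injective_iff_map_eq_zero]
  intro c hc
  refine WeakAssLib.eq_zero_of_forall hM c fun y hy hwa => ?_
  obtain ⟨D, hyD, hD⟩ := h y hwa
  have hyWD : y ∈ W ⊓ D := ⟨hy, hyD⟩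
  rw [← WeakAssLib.mgerm_res _ (inf_le_left : W ⊓ D ≤ W) hyWD c]
  suffices h0 : res M (inf_le_left : W ⊓ D ≤ W) c = 0 by rw [h0, map_zero]
  apply (TMul.tm_bijective (M := M) hD (W ⊓ D) inf_le_right).1
  show tm (res M inf_le_left c) (res L inf_le_right (res L le_top a)) = tm (0 : Γ(M, W ⊓ D)) _
  rw [TMul.zero_tm, res_res, ← mulR_app]
  exact (app_res (mulR a M) (inf_le_left : W ⊓ D ≤ W) c).symm.trans (by rw [hc, map_zero])

/-- A linear form avoiding finitely many points. -/
theorem exists_linear_avoid (k : Type u) [Field k] [Infinite k] (n : ℕ) {E : Set (CohB1.ProjSpace n k)}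
    (hE : E.Finite) :
    ∃ a : Γ(PnReg.Ot k n 1, ⊤), ∀ y ∈ E, ∃ D : (CohB1.ProjSpace n k).Opens,
      y ∈ D ∧ IsGen (res (PnReg.Ot k n 1) (le_top : D ≤ ⊤) a) := by
  have hL : PicF.IsInvertible (PnReg.Ot k n 1) := CohFinite.isInvertible_twist n k 1
  letI := CurveRR.secMod (k := k) (X := CohB1.ProjSpace n k) (PnReg.Ot k n 1)
  suffices h : ∃ a, ∀ y ∈ E, y ∈ CohB1.genLocus _ (homOf a) by
    obtain ⟨a, ha⟩ := h
    refine ⟨a, fun y hy => ?_⟩
    obtain ⟨D, hyD, hD⟩ := (TMul.mem_genLocus_iff _).mp (ha y hy)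
    exact ⟨D, hyD, by rwa [val_homOf] at hD⟩
  haveI := hE.to_subtype
  by_contra! hno
  obtain ⟨⟨y, hy⟩, htop⟩ := Subspace.exists_eq_top_of_iUnion_eq_univ
    (p := fun y : E => SecAvoid.vanSub k hL y.1) (Set.eq_univ_of_forall fun v => by
      obtain ⟨y, hy, hv⟩ := hno v
      exact Set.mem_iUnion.mpr ⟨⟨y, hy⟩, hv⟩)
  obtain ⟨i, hi⟩ := PnReg.exists_cover (R := k) y
  refine (SecAvoid.mem_vanSub k hL y _).1 (htop.ge (Submodule.mem_top (x := PnReg.secX i))) ?_
  exact (TMul.mem_genLocus_iff _).mpr ⟨_, hi, by rw [val_homOf]; exact PnReg.secX_isGen i⟩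

/-- Over an infinite field some linear form is a nonzerodivisor on a given coherent module. -/
theorem exists_mono_mulR (k : Type u) [Field k] [Infinite k] (n : ℕ) {M : (CohB1.ProjSpace n k).Modules}
    (hM : Coh.IsCoh M) : ∃ a : Γ(PnReg.Ot k n 1, ⊤), Mono (mulR a M) := by
  haveI := CohFinite.isNoetherian_projSpace n k
  have hfin : {y : CohB1.ProjSpace n k | Curv2.IsAssPoint M y}.Finite :=
    (Groth.Agent.S1576.result _ M hM ⊤ isCompact_univ).subset fun x hx => ⟨trivial, hx⟩
  obtain ⟨a, ha⟩ := exists_linear_avoid k n hfin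
  exact ⟨a, mono_mulR a hM.1 fun y hy => ha y ((WeakAssLib.isAssPoint_iff _ y).2 hy)⟩

end Groth.Agent.MumBound
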