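import Groth.Agent.MumBound.Main
import Groth.Agent.PnReg.BaseChange
import Groth.Agent.PnSpec.Twist
import Groth.Agent.W7Cech.FlatBCSep
import Groth.Agent.K0Hom.PbF
import Groth.Agent.QC.Pullback
import Groth.Prelude.Def_FrameBundle
import Mathlib.RingTheory.Flat.FaithfullyFlat.Basic

/-!
Field extensions: projective space, twists, cohomology and regularity.
-/

set_option autoImplicit false
set_option linter.unusedSectionVars false
set_option linter.style.haveILetI false
set_option backward.isDefEq.respectTransparency false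
set_option backward.isDefEq.respectTransparency.types false
set_option maxHeartbeats 1000000

universe u

open CategoryTheory CategoryTheory.Limits AlgebraicGeometry
open scoped TensorProduct

noncomputable section

namespace Groth.Agent.MumBound

variable (k k' : Type u) [Field k] [Field k'] [Algebra k k'] (n : ℕ)

/-- Projective space over an extension field is the base change, with its twists. -/
theorem exists_bcMap :
    ∃ g : CohB1.ProjSpace n k' ⟶ CohB1.ProjSpace n k,
      IsPullback g (CohB1.ProjSpace.toSpec n k') (CohB1.ProjSpace.toSpec n k)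
        (Spec.map (CommRingCat.ofHom (algebraMap k k'))) ∧
      ∀ d : ℤ, Nonempty ((Scheme.Modules.pullback g).obj (PnReg.Ot k n d) ≅ PnReg.Ot k' n d) := by
  obtain ⟨e, he, ht⟩ := PnSpec.exists_iso_twist n k
  obtain ⟨e', he', ht'⟩ := PnSpec.exists_iso_twist n k'
  let h := Spec.map (CommRingCat.ofHom (algebraMap k k'))
  let G := KRR.projSpaceMap n h
  refine ⟨e'.hom ≫ G ≫ e.inv, ?_, fun d => ?_⟩
  · refine (PnReg.isPullback_map (n := n) h).of_iso e'.symm e.symm (Iso.refl _) (Iso.refl _) ?_ ?_ ?_ ?_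
    · simp [G, h]
    · rw [Iso.refl_hom, Category.comp_id, ← he']
      simp
    · rw [Iso.refl_hom, Category.comp_id, ← he]
      simp
    · simp [h]
  · obtain ⟨a⟩ := ht d
    obtain ⟨b⟩ := ht' d
    let c : (Scheme.Modules.pullback G).obj (Twist.twistOver n (Spec (CommRingCat.of k)) d) ≅
        Twist.twistOver n (Spec (CommRingCat.of k')) d :=
      (Scheme.Modules.pullbackComp G _).app _ ≪≫ (Scheme.Modules.pullbackCongr (PnReg.map_fst h)).app _
    exact ⟨(Scheme.Modules.pullback _).mapIso a.symm ≪≫ (Scheme.Modules.pullbackComp _ e.hom).app _ ≪≫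
      (Scheme.Modules.pullbackCongr (show (e'.hom ≫ G ≫ e.inv) ≫ e.hom = e'.hom ≫ G by simp)).app _ ≪≫
      ((Scheme.Modules.pullbackComp e'.hom G).app _).symm ≪≫ (Scheme.Modules.pullback e'.hom).mapIso c ≪≫ b⟩

/-- A chosen base change map. -/
def bcg : CohB1.ProjSpace n k' ⟶ CohB1.ProjSpace n k := (exists_bcMap k k' n).choose

theorem isPullback_bcg :
    IsPullback (bcg k k' n) (CohB1.ProjSpace.toSpec n k') (CohB1.ProjSpace.toSpec n k)
      (Spec.map (CommRingCat.ofHom (algebraMap k k'))) := (exists_bcMap k k' n).choose_spec.1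

instance flat_bcg : Flat (bcg k k' n) := by
  refine MorphismProperty.of_isPullback (P := @Flat) (isPullback_bcg k k' n).flip ?_
  rw [HasRingHomProperty.Spec_iff (P := @Flat)]
  show (algebraMap k k').Flat
  rw [RingHom.flat_algebraMap_iff]
  infer_instance

theorem nonempty_pullback_tw (M : (CohB1.ProjSpace n k).Modules) (t : ℤ) :
    Nonempty ((Scheme.Modules.pullback (bcg k k' n)).obj (tw M t) ≅
      tw ((Scheme.Modules.pullback (bcg k k' n)).obj M) t) := by
  obtain ⟨e⟩ := TMul.nonempty_pullTensorIso (bcg k k' n) M (PnReg.Ot k n t)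
  obtain ⟨d⟩ := (exists_bcMap k k' n).choose_spec.2 t
  exact ⟨e.symm ≪≫ PicGrp.tensorModIso (Iso.refl _) d⟩

variable {k n}

theorem nonempty_hh_bc {M : (CohB1.ProjSpace n k).Modules} (hM : Coh.IsCoh M) (t : ℤ) (i : ℕ) :
    Nonempty ((k' ⊗[k] Coh.HH (CohB1.ProjSpace n k) (tw M t) i) ≃ₗ[k']
      Coh.HH (CohB1.ProjSpace n k') (tw ((Scheme.Modules.pullback (bcg k k' n)).obj M) t) i) := by
  haveI : IsProper (CohB1.ProjSpace.toSpec n k) := ProjMor.isProper_toSpec n k
  haveI : CompactSpace (CohB1.ProjSpace n k) :=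
    QuasiCompact.compactSpace_of_compactSpace (CohB1.ProjSpace.toSpec n k)
  haveI : (CohB1.ProjSpace n k).IsSeparated := by
    constructor
    rw [← CategoryTheory.Limits.terminal.comp_from (CohB1.ProjSpace.toSpec n k)]
    infer_instance
  obtain ⟨e⟩ := W7Cech.nonempty_hh_flatBC k k' (bcg k k' n) (isPullback_bcg k k' n) (tw M t) (isCoh_tw hM t).1 i
  obtain ⟨j⟩ := nonempty_pullback_tw k k' n M t
  exact ⟨e.trans (CohFinite.hhEquiv k' j i)⟩

theorem euler_bc {M : (CohB1.ProjSpace n k).Modules} (hM : Coh.IsCoh M) (t : ℤ) :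
    Curv2.euler k' (CohB1.ProjSpace n k') (tw ((Scheme.Modules.pullback (bcg k k' n)).obj M) t) =
      Curv2.euler k (CohB1.ProjSpace n k) (tw M t) :=
  finsum_congr fun i => by
    obtain ⟨e⟩ := nonempty_hh_bc k' hM t i
    rw [← e.finrank_eq, Module.finrank_baseChange]

theorem reg_of_bc {M : (CohB1.ProjSpace n k).Modules} (hM : Coh.IsCoh M) {m : ℤ}
    (h : PnReg.Reg ((Scheme.Modules.pullback (bcg k k' n)).obj M) m) : PnReg.Reg M m := fun q hq => by
  obtain ⟨e⟩ := nonempty_hh_bc k' hM (m - q) q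
  haveI : Subsingleton (Coh.HH (CohB1.ProjSpace n k') (tw ((Scheme.Modules.pullback (bcg k k' n)).obj M) (m - q)) q) :=
    h q hq
  haveI := e.toEquiv.subsingleton
  exact (Module.FaithfullyFlat.subsingleton_tensorProduct_iff_right (R := k) (M := k')).1 inferInstance

/-- Mumford's bound over every field. -/
theorem exists_bound_field (n r : ℕ) (P : Polynomial ℚ) :
    ∃ m : ℕ, ∀ (k : Type u) [Field k] (F : (CohB1.ProjSpace n k).Modules)
      (φ : FlatMod.freeMod (CohB1.ProjSpace n k) r ⟶ F), Coh.IsCoh F → Epi φ →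
      (∀ t : ℤ, (Curv2.euler k (CohB1.ProjSpace n k) (tw F t) : ℚ) = P.eval (t : ℚ)) →
      PnReg.Reg (kernel φ) (m : ℤ) := by
  obtain ⟨m, hm⟩ := exists_bound.{u} n r (P.natDegree + 1) P (Or.inr (Nat.lt_succ_self _))
  refine ⟨m, fun k _ F φ hF hφ hP => ?_⟩
  haveI := hφ
  haveI := CohFinite.isNoetherian_projSpace n k
  let K := AlgebraicClosure k
  let g := bcg k K n
  have hA : (ShortComplex.mk (kernel.ι φ) φ (kernel.condition φ)).ShortExact :=
    { exact := ShortComplex.exact_of_f_is_kernel _ (kernelIsKernel φ), epi_g := inferInstanceAs (Epi φ) }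
  have hG : Coh.IsCoh (kernel φ) :=
    Groth.Agent.QC.isCoh_kernel (NegFilt.isCoh_freeMod (X := CohB1.ProjSpace n k) r) hF.1 φ
  haveI := (Scheme.Modules.pullbackPushforwardAdjunction g).leftAdjoint_preservesColimits.{0, 0}
  haveI : (Scheme.Modules.pullback g).Additive := Functor.additive_of_preserves_binary_products _
  have hA' := K0Hom.shortExact_pullback_flat g hA
  let e := FrB.pullbackFreeIso g r
  haveI : Epi ((Scheme.Modules.pullback g).map φ) := hA'.epi_g
  let φ' : FlatMod.freeMod (CohB1.ProjSpace n K) r ⟶ (Scheme.Modules.pullback g).obj F :=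
    e.inv ≫ (Scheme.Modules.pullback g).map φ
  have h := hm K _ φ' (Groth.Agent.QC.isCoh_pullback g hF) inferInstance fun t => by
    rw [euler_bc K hF t]
    exact hP t
  exact reg_of_bc K hG (PnReg.reg_of_iso (kernelIsIsoComp e.inv ((Scheme.Modules.pullback g).map φ) ≪≫
    (limit.isLimit _).conePointUniqueUpToIso hA'.fIsKernel) h)

end Groth.Agent.MumBound
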