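import Groth.Agent.MumBound.Main
import Groth.Agent.MumBound.Hilb
import Groth.Agent.PnReg.Main
import Groth.Agent.SerrePn.ClosedTwist
import Groth.Agent.ResDesc.Main
import Groth.Agent.QC.Pullback
import Groth.Agent.ExtShX.DualStalk

/-!
Uniform vanishing and generation for quotients of free modules on a closed subscheme of projective space.
-/

set_option autoImplicit false
set_option linter.unusedSectionVars false
set_option linter.style.haveILetI false
set_option backward.isDefEq.respectTransparency false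
set_option backward.isDefEq.respectTransparency.types false
set_option maxHeartbeats 1000000

universe u

open CategoryTheory CategoryTheory.Limits AlgebraicGeometry TopologicalSpace Opposite
open Groth.Agent Groth.Agent.CohFinite

noncomputable section

namespace Groth.Agent.MumBound

variable {X Y : Scheme.{u}} (i : X ⟶ Y)

/-- The surjection `O_Y → i_* O_X`. -/
def unitOne : Coh.structureModule Y ⟶ (Scheme.Modules.pushforward i).obj (Coh.structureModule X) :=
  TMul.homOf (show Γ((Scheme.Modules.pushforward i).obj (Coh.structureModule X), ⊤) from (1 : Γ(X, i ⁻¹ᵁ ⊤)))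

theorem unitOne_app {U : Y.Opens} (r : Γ(Y, U)) : (unitOne i).app U r = (i.app U r : Γ(X, i ⁻¹ᵁ U)) := by
  rw [TMul.app_eq_smul, unitOne, TMul.val_homOf]
  show HMul.hMul (α := Γ(X, i ⁻¹ᵁ U)) (β := Γ(X, i ⁻¹ᵁ U)) (i.app U r)
    (Groth.Agent.QC.resO X (i.preimage_mono le_top) (1 : Γ(X, i ⁻¹ᵁ ⊤))) = i.app U r
  rw [map_one, mul_one]

instance epi_unitOne [IsClosedImmersion i] : Epi (unitOne i) := InvGen.epi_of_locally _ fun U t x hx => by
  obtain ⟨V, hV, hxV, hVU⟩ := exists_isAffineOpen_mem_and_subset (show x ∈ U from hx)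
  obtain ⟨r, hr⟩ := i.app_surjective V hV
    (Groth.Agent.QC.res ((Scheme.Modules.pushforward i).obj (Coh.structureModule X)) hVU t)
  exact ⟨V, hVU, hxV, r, (unitOne_app i r).trans hr⟩

/-- The surjection `O_Y^N → i_* F` induced by `O_X^N → F`. -/
def pushQuot {N : ℕ} {F : X.Modules} (q : FlatMod.freeMod X N ⟶ F) :
    FlatMod.freeMod Y N ⟶ (Scheme.Modules.pushforward i).obj F :=
  Sigma.desc fun j => unitOne i ≫
    (Scheme.Modules.pushforward i).map (Sigma.ι (fun _ : Fin N => Coh.structureModule X) j ≫ q)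

theorem pushQuot_comp {N : ℕ} {F : X.Modules} (q : FlatMod.freeMod X N ⟶ F) :
    pushQuot i (𝟙 (FlatMod.freeMod X N)) ≫ (Scheme.Modules.pushforward i).map q = pushQuot i q := by
  refine Sigma.hom_ext _ _ fun j => ?_
  simp [pushQuot, Functor.map_comp]

theorem epi_pushQuot [IsClosedImmersion i] (N : ℕ) : Epi (pushQuot i (𝟙 (FlatMod.freeMod X N))) := by
  classical
  refine Preadditive.epi_of_cancel_zero _ fun {Z} g hg => ?_
  have hj : ∀ j, (Scheme.Modules.pushforward i).map (Sigma.ι (fun _ : Fin N => Coh.structureModule X) j) ≫ g = 0 :=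
    fun j => by
      rw [← cancel_epi (unitOne i), comp_zero]
      have := congrArg (Sigma.ι (fun _ : Fin N => Coh.structureModule Y) j ≫ ·) hg
      simp only [comp_zero] at this
      rwa [pushQuot, colimit.ι_desc_assoc, Cofan.mk_ι_app, Category.comp_id, Category.assoc] at this
  let p : ∀ j : Fin N, FlatMod.freeMod X N ⟶ Coh.structureModule X := fun j =>
    Sigma.desc fun l => if l = j then 𝟙 _ else 0
  have hsum : ∑ j, p j ≫ Sigma.ι (fun _ : Fin N => Coh.structureModule X) j = 𝟙 (FlatMod.freeMod X N) := by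
    refine Sigma.hom_ext _ _ fun l => ?_
    rw [Preadditive.comp_sum, Category.comp_id, Finset.sum_eq_single l]
    · simp only [p, colimit.ι_desc_assoc, Cofan.mk_pt, Cofan.mk_ι_app, if_pos rfl]
      exact Category.id_comp _
    · intro b _ hb
      simp [p, Ne.symm hb]
    · simp
  have h1 := congrArg (fun f => (Scheme.Modules.pushforward i).map f ≫ g) hsum
  simp only [Functor.map_sum, Functor.map_comp, Preadditive.sum_comp, Category.assoc, hj, comp_zero,
    Finset.sum_const_zero, CategoryTheory.Functor.map_id, Category.id_comp] at h1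
  exact h1.symm

/-- The sequence of kernels of a composite of epimorphisms. -/
theorem shortExact_kernels {C : Type*} [Category C] [Abelian C] {A B D : C} (ρ : A ⟶ B) [Epi ρ] (p : B ⟶ D) :
    ∃ (f : kernel ρ ⟶ kernel (ρ ≫ p)) (g : kernel (ρ ≫ p) ⟶ kernel p) (w : f ≫ g = 0),
      (ShortComplex.mk f g w).ShortExact := by
  let f : kernel ρ ⟶ kernel (ρ ≫ p) := kernel.lift _ (kernel.ι ρ) (by rw [← Category.assoc, kernel.condition, zero_comp])
  let g : kernel (ρ ≫ p) ⟶ kernel p := kernel.lift _ (kernel.ι _ ≫ ρ) (by rw [Category.assoc, kernel.condition])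
  have hw : f ≫ g = 0 := by
    rw [← cancel_mono (kernel.ι p)]
    simp [f, g]
  haveI : Mono (f ≫ kernel.ι (ρ ≫ p)) := by simp only [f, kernel.lift_ι]; infer_instance
  haveI : Mono f := mono_of_mono f (kernel.ι (ρ ≫ p))
  haveI : Epi g := by
    rw [epi_iff_surjective_up_to_refinements]
    intro T x
    obtain ⟨T', π, hπ, y, hy⟩ := surjective_up_to_refinements_of_epi ρ (x ≫ kernel.ι p)
    refine ⟨T', π, hπ, kernel.lift _ y (by rw [← Category.assoc, ← hy]; simp), ?_⟩
    rw [← cancel_mono (kernel.ι p)]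
    simpa [g] using hy
  refine ⟨f, g, hw, { exact := ?_ }⟩
  rw [ShortComplex.exact_iff_exact_up_to_refinements]
  intro T x hx
  refine ⟨T, 𝟙 T, inferInstance, kernel.lift ρ (x ≫ kernel.ι _) ?_, ?_⟩
  · have := congrArg (· ≫ kernel.ι p) (show x ≫ g = 0 from hx)
    simpa [g] using this
  · rw [← cancel_mono (kernel.ι (ρ ≫ p))]
    simp [f]

variable {k : Type u} [Field k] [Infinite k] {n : ℕ}

/-- Uniform regularity of quotients of free modules with given polynomial, and of their kernels. -/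
theorem exists_reg_closed {X : Scheme.{u}} (ι : X ⟶ CohB1.ProjSpace n k) [IsClosedImmersion ι]
    (N : ℕ) (P : Polynomial ℚ) :
    ∃ M : ℕ, ∀ (F : X.Modules) (q : FlatMod.freeMod X N ⟶ F), Coh.IsCoh F → Epi q →
      (∀ t : ℕ, (Curv2.euler k (CohB1.ProjSpace n k) (tw ((Scheme.Modules.pushforward ι).obj F) t) : ℚ) =
        P.eval (t : ℚ)) →
      PnReg.Reg ((Scheme.Modules.pushforward ι).obj F) (M : ℤ) ∧
        PnReg.Reg ((Scheme.Modules.pushforward ι).obj (kernel q)) (M : ℤ) := by
  haveI := CohFinite.isNoetherian_projSpace n k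
  haveI : IsLocallyNoetherian X := LocallyOfFiniteType.isLocallyNoetherian ι
  let a := Scheme.Modules.pushforward ι
  have hpush : ∀ {G : X.Modules}, Coh.IsCoh G → Coh.IsCoh (a.obj G) := fun hG => by
    haveI := hG.1
    exact Groth.Agent.QC.isCoh_pushforward_of_isFinite ι hG.2
  have hE := NegFilt.isCoh_freeMod (X := CohB1.ProjSpace n k) N
  have hEX := NegFilt.isCoh_freeMod (X := X) N
  let ρ := pushQuot ι (𝟙 (FlatMod.freeMod X N))
  haveI : Epi ρ := epi_pushQuot ι N
  have hJ : Coh.IsCoh (kernel ρ) := Groth.Agent.QC.isCoh_kernel hE (hpush hEX).1 ρ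
  obtain ⟨T, hT⟩ := eventually_vanish hJ
  let mX : ℕ := T + n + 1
  have hregJ : PnReg.Reg (kernel ρ) (mX : ℤ) := fun q hq => by
    rcases le_or_gt q n with h | h
    · exact hT _ (by omega) q hq
    · exact PnReg.hh_above _ (isCoh_tw hJ _).1 q h
  obtain ⟨m, hm⟩ := exists_bound.{u} n N (P.natDegree + 1) P (Or.inr (Nat.lt_succ_self _))
  refine ⟨max m mX, fun F q hF hq hP => ?_⟩
  haveI := hq
  haveI : Epi (a.map q) := ResDesc.epi_push ι hEX.1 hF.1 q
  have hG : Coh.IsCoh (kernel q) := Groth.Agent.QC.isCoh_kernel hEX hF.1 q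
  have hG' : Coh.IsCoh (kernel (pushQuot ι q)) := Groth.Agent.QC.isCoh_kernel hE (hpush hF).1 _
  haveI : Epi (pushQuot ι q) := by rw [← pushQuot_comp]; exact epi_comp _ _
  have h1 := hm k _ (pushQuot ι q) (hpush hF) inferInstance (euler_eq_eval (hpush hF) P hP)
  obtain ⟨e, he⟩ : ∃ e : ℕ, max m mX = m + e := ⟨max m mX - m, by omega⟩
  obtain ⟨e', he'⟩ : ∃ e : ℕ, max m mX + 1 = mX + e := ⟨max m mX + 1 - mX, by omega⟩
  have h2 : PnReg.Reg (kernel (pushQuot ι q)) ((max m mX : ℕ) : ℤ) := by
    rw [he]; push_cast; exact PnReg.reg_add hG'.1 h1 e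
  have hS : (ShortComplex.mk (kernel.ι (pushQuot ι q)) (pushQuot ι q) (kernel.condition _)).ShortExact :=
    { exact := ShortComplex.exact_of_f_is_kernel _ (kernelIsKernel _),
      epi_g := inferInstanceAs (Epi (pushQuot ι q)) }
  refine ⟨PnReg.reg_X3 hS ?_ ?_, ?_⟩
  · simpa using PnReg.reg_add hE.1 (reg_free (k := k) (n := n) N) (max m mX)
  · exact PnReg.reg_add hG'.1 h2 1
  obtain ⟨f, g, w, hK⟩ := shortExact_kernels ρ (a.map q)
  haveI : PreservesFiniteLimits a :=
    haveI := (Scheme.Modules.pullbackPushforwardAdjunction ι).rightAdjoint_preservesLimits.{0, 0}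
    inferInstance
  refine PnReg.reg_of_iso (PreservesKernel.iso a q).symm (PnReg.reg_X3 hK ?_ ?_)
  · exact PnReg.reg_of_iso (kernelIsoOfEq (pushQuot_comp ι q).symm) h2
  · rw [show ((max m mX : ℕ) : ℤ) + 1 = ((mX + e' : ℕ) : ℤ) by rw [← he']; push_cast; ring]
    push_cast
    exact PnReg.reg_add hJ.1 hregJ e'

end Groth.Agent.MumBound
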