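import Groth.Agent.MumBound.Mul
import Groth.Agent.CurveRR.Euler
import Groth.Agent.NegFilt.Basic

/-!
The inductive step of Mumford's regularity bound: a kernel of a quotient of a free module is regular
once the kernel onto a hyperplane section is.
-/

set_option autoImplicit false
set_option linter.unusedSectionVars false
set_option linter.style.haveILetI false
set_option backward.isDefEq.respectTransparency false
set_option backward.isDefEq.respectTransparency.types false
set_option maxHeartbeats 1000000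

universe u

open CategoryTheory CategoryTheory.Limits AlgebraicGeometry TopologicalSpace Opposite
open Groth.Agent Groth.Agent.CohFinite Groth.Agent.RegKos Groth.Agent.Mumford TMul

noncomputable section

namespace Groth.Agent.MumBound

variable {k : Type u} [Field k] {n : ℕ}

local notation "PS" => CohB1.ProjSpace n k

/-- A twist. -/
abbrev tw (M : (CohB1.ProjSpace n k).Modules) (t : ℤ) : (CohB1.ProjSpace n k).Modules :=
  CohB1.tensorMod M (PnReg.Ot k n t)

/-- A twisted morphism. -/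
abbrev twm {M N : (CohB1.ProjSpace n k).Modules} (f : M ⟶ N) (t : ℤ) : tw M t ⟶ tw N t :=
  tmap f (PnReg.Ot k n t)

instance isProper_projSpace : IsProper ((CohB1.ProjSpace n k) ↘ Spec (CommRingCat.of k)) :=
  ProjMor.isProper_toSpec n k

theorem isCoh_tw {M : (CohB1.ProjSpace n k).Modules} (hM : Coh.IsCoh M) (t : ℤ) : Coh.IsCoh (tw M t) :=
  isCoh_tensor hM (isInvertible_twist n k t)

theorem twSeq {S : ShortComplex (CohB1.ProjSpace n k).Modules} (hS : S.ShortExact) (t : ℤ) :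
    (ShortComplex.mk (twm S.f t) (twm S.g t)
      (by rw [← tmap_comp, S.zero, tmap_zero])).ShortExact :=
  shortExact_tmap (isInvertible_twist n k t) hS

theorem eventually_vanish {M : (CohB1.ProjSpace n k).Modules} (hM : Coh.IsCoh M) :
    ∃ T : ℕ, ∀ t : ℤ, (T : ℤ) ≤ t → ∀ q : ℕ, 1 ≤ q → Subsingleton (Coh.HH PS (tw M t) q) := by
  obtain ⟨T, hT⟩ := vanish_projSpace n k M hM
  refine ⟨T, fun t ht q hq => ?_⟩
  obtain ⟨m, rfl⟩ : ∃ m : ℕ, t = (m : ℤ) := ⟨t.toNat, by omega⟩
  obtain ⟨p, rfl⟩ : ∃ p, q = p + 1 := ⟨q - 1, by omega⟩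
  obtain ⟨e⟩ := GrT.nonempty_iso_tensorPow (𝒜 := CohB1.polyGrading n k) (cov_one n k) m
  exact CohQC.hh_subsingleton_of_iso (PicGrp.tensorModIso (Iso.refl M) e.symm) _ (hT m (by omega) p)

/-- Regular modules have no higher cohomology in high twists. -/
theorem hh_reg {M : (CohB1.ProjSpace n k).Modules} (hM : Coh.IsQCoh M) {m : ℤ} (hreg : PnReg.Reg M m) (t : ℤ)
    (q : ℕ) (hq : 1 ≤ q) (ht : m - q ≤ t) : Subsingleton (Coh.HH PS (tw M t) q) := by
  obtain ⟨e, he⟩ : ∃ e : ℕ, t = m + e - q := ⟨(t - m + q).toNat, by omega⟩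
  exact he ▸ PnReg.reg_add hM hreg e q hq

theorem hh_free (r : ℕ) (d : ℤ) (q : ℕ) (hq : 1 ≤ q) (hd : -(q : ℤ) ≤ d) :
    Subsingleton (Coh.HH PS (tw (FlatMod.freeMod PS r) d) q) := by
  classical
  let O := Coh.structureModule PS
  let p : ∀ _ : Fin r, FlatMod.freeMod PS r ⟶ O := fun j => Sigma.desc fun i => if i = j then 𝟙 O else 0
  have hsum : ∑ j, p j ≫ Sigma.ι (fun _ : Fin r => O) j = 𝟙 (FlatMod.freeMod PS r) := by
    refine Sigma.hom_ext _ _ fun i => ?_
    rw [Preadditive.comp_sum, Category.comp_id, Finset.sum_eq_single i]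
    · simp only [p, colimit.ι_desc_assoc, Cofan.mk_pt, Cofan.mk_ι_app, if_pos rfl]
      exact Category.id_comp _
    · intro b _ hb
      simp [p, Ne.symm hb]
    · simp
  refine subsingleton_of_split _ (fun _ : Fin r => tw O d) (fun j => twm (Sigma.ι (fun _ : Fin r => O) j) d)
    (fun j => twm (p j) d) ?_ q fun j => ?_
  · simp only [twm, ← tmap_comp]
    rw [← tmap_sum, hsum, tmap_id]
  · exact CohQC.hh_subsingleton_of_iso (TMul.leftUnitIso (PnReg.Ot k n d)).symm q
      (ProjCech.twist_vanish n d q (by omega) (by omega))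

theorem reg_free (r : ℕ) : PnReg.Reg (FlatMod.freeMod PS r) 0 := fun q hq =>
  hh_free r _ q hq (by omega)

/-- Vanishing of the cohomology of a submodule. -/
theorem subsingleton_X1 {S : ShortComplex (CohB1.ProjSpace n k).Modules} (hS : S.ShortExact) (q : ℕ)
    (h₂ : Subsingleton (Coh.HH PS S.X₂ (q + 1))) (h₃ : Subsingleton (Coh.HH PS S.X₃ q)) :
    Subsingleton (Coh.HH PS S.X₁ (q + 1)) := by
  refine subsingleton_of_forall_eq 0 fun x => ?_
  obtain ⟨y, hy⟩ := (map_f_eq_zero_iff (shortExact_toAb hS) q x).1 (h₂.elim _ _)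
  exact hy.symm.trans ((congrArg _ (h₃.elim y 0)).trans (map_zero _))

/-- Global sections as cohomology in degree zero. -/
def sec0 (M : (CohB1.ProjSpace n k).Modules) : Coh.HH PS M 0 ≃+ Γ(M, ⊤) :=
  Sheaf.H.equiv₀ (Coh.toAb M) (Limits.isTerminalTop (α := (CohB1.ProjSpace n k).Opens))

theorem sec0_map {M N : (CohB1.ProjSpace n k).Modules} (f : M ⟶ N) (x : Coh.HH PS M 0) :
    f.app ⊤ (sec0 M x) = sec0 N (hhMap k f 0 x) :=
  Sheaf.H.equiv₀_naturality (Limits.isTerminalTop (α := (CohB1.ProjSpace n k).Opens)) (toAbMap f) x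

/-- Raising the twist. -/
def up {t t' : ℤ} (i : CohB1.tensorMod (PnReg.Ot k n t) (PnReg.Ot k n 1) ≅ PnReg.Ot k n t')
    (M : (CohB1.ProjSpace n k).Modules) : CohB1.tensorMod (tw M t) (PnReg.Ot k n 1) ⟶ tw M t' :=
  TMul.assocHom M _ _ ≫ whisk M i.hom

theorem up_natural {t t' : ℤ} (i : CohB1.tensorMod (PnReg.Ot k n t) (PnReg.Ot k n 1) ≅ PnReg.Ot k n t')
    {M N : (CohB1.ProjSpace n k).Modules} (f : M ⟶ N) :
    tmap (twm f t) (PnReg.Ot k n 1) ≫ up i N = up i M ≫ twm f t' :=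
  TMul.hom_ext₃ fun U m a b => by
    show (whisk N i.hom).app U ((TMul.assocHom N _ _).app U ((tmap (twm f t) _).app U (tm (tm m a) b))) =
      (twm f t').app U ((whisk M i.hom).app U ((TMul.assocHom M _ _).app U (tm (tm m a) b)))
    rw [tmap_tm, tmap_tm, assocHom_tm, assocHom_tm, whisk_tm, whisk_tm, tmap_tm]

theorem up_surjective {t t' : ℤ} (i : CohB1.tensorMod (PnReg.Ot k n t) (PnReg.Ot k n 1) ≅ PnReg.Ot k n t')
    (M : (CohB1.ProjSpace n k).Modules) (U : (CohB1.ProjSpace n k).Opens) :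
    Function.Surjective ((up i M).app U) := fun w => by
  obtain ⟨v, hv⟩ := whisk_surjective M i U w
  refine ⟨(TMul.assocInv M _ _).app U v, ?_⟩
  show (whisk M i.hom).app U ((TMul.assocHom M _ _).app U ((TMul.assocInv M _ _).app U v)) = w
  rw [show (TMul.assocHom M _ _).app U ((TMul.assocInv M _ _).app U v) = v from
    congrArg (RegKos.ev v) (TMul.assocIso M _ _).inv_hom_id, hv]

/-- If the image of one map of global sections lies in that of another, it does so after twisting,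
provided the source is generated in that degree. -/
theorem range_propagate {K E F : (CohB1.ProjSpace n k).Modules} (ψ : K ⟶ F) (φ : E ⟶ F) (t : ℤ)
    (hK : ∀ v : Γ(CohB1.tensorMod (tw K t) (PnReg.Ot k n 1), ⊤), v ∈ pureSums (tw K t) (PnReg.Ot k n 1))
    (h : ∀ y, ∃ e, (twm φ t).app ⊤ e = (twm ψ t).app ⊤ y) :
    ∀ z, ∃ e, (twm φ (t + 1)).app ⊤ e = (twm ψ (t + 1)).app ⊤ z := by
  obtain ⟨i⟩ := PnReg.nonempty_twist_twist (R := k) (n := n) t 1 (t + 1) rfl
  intro z
  obtain ⟨v, rfl⟩ := up_surjective i K ⊤ z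
  obtain ⟨p, rfl⟩ := hK v
  induction p using TensorProduct.induction_on with
  | zero => exact ⟨0, by simp only [map_zero]⟩
  | add p q hp hq =>
    obtain ⟨e, he⟩ := hp
    obtain ⟨e', he'⟩ := hq
    exact ⟨e + e', by simp only [map_add]; rw [he, he']⟩
  | tmul y l =>
    obtain ⟨e, he⟩ := h y
    refine ⟨(up i E).app ⊤ (tm e l), ?_⟩
    rw [TMul.tt_tmul]
    have h1 := congrArg (RegKos.ev (tm e l)) (up_natural i φ)
    have h2 := congrArg (RegKos.ev (tm y l)) (up_natural i ψ)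
    show (twm φ (t + 1)).app ⊤ ((up i E).app ⊤ (tm e l)) = (twm ψ (t + 1)).app ⊤ ((up i K).app ⊤ (tm y l))
    refine h1.symm.trans (Eq.trans ?_ h2)
    show (up i F).app ⊤ ((tmap (twm φ t) _).app ⊤ (tm e l)) = (up i F).app ⊤ ((tmap (twm ψ t) _).app ⊤ (tm y l))
    rw [tmap_tm, tmap_tm, he]

theorem injective_of_chain {F : (CohB1.ProjSpace n k).Modules} (hF : Coh.IsCoh F) (q : ℕ) (hq : 1 ≤ q) (t₀ : ℤ)
    (h : ∀ t, t₀ ≤ t → Subsingleton (Coh.HH PS (tw F (t + 1)) q) → Subsingleton (Coh.HH PS (tw F t) q))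
    (t : ℤ) (ht : t₀ ≤ t) : Subsingleton (Coh.HH PS (tw F t) q) := by
  obtain ⟨T, hT⟩ := eventually_vanish hF
  suffices hj : ∀ (j : ℕ) (t : ℤ), t₀ ≤ t → (T : ℤ) ≤ t + j → Subsingleton (Coh.HH PS (tw F t) q) from
    hj ((T : ℤ) - t).toNat t ht (by omega)
  intro j
  induction j with
  | zero => intro t _ hT'; exact hT t (by simpa using hT') q hq
  | succ j ih => intro t ht hT'; exact h t ht (ih (t + 1) (by omega) (by push_cast at hT'; omega))

section Step

variable {r : ℕ} {F : (CohB1.ProjSpace n k).Modules} (φ : FlatMod.freeMod (CohB1.ProjSpace n k) r ⟶ F) [Epi φ]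
  (hF : Coh.IsCoh F) (a : Γ(PnReg.Ot k n 1, ⊤)) [Mono (mulR a F)]

/-- The map onto the twisted hyperplane section. -/
abbrev theta : tw (FlatMod.freeMod (CohB1.ProjSpace n k) r) 1 ⟶ cokernel (mulR a F) :=
  twm φ 1 ≫ cokernel.π (mulR a F)

/-- The lift through multiplication by the linear form. -/
def psi : kernel (theta φ a) ⟶ F :=
  Abelian.monoLift (mulR a F) (kernel.ι (theta φ a) ≫ twm φ 1) (by rw [Category.assoc]; exact kernel.condition _)

theorem psi_fac : psi φ a ≫ mulR a F = kernel.ι (theta φ a) ≫ twm φ 1 :=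
  Abelian.monoLift_comp _ _ _

/-- Multiplication into the kernel. -/
def lam : FlatMod.freeMod (CohB1.ProjSpace n k) r ⟶ kernel (theta φ a) :=
  kernel.lift _ (mulR a _) (by rw [← Category.assoc, mulR_natural, Category.assoc, cokernel.condition, comp_zero])

theorem lam_psi : lam φ a ≫ psi φ a = φ := by
  rw [← cancel_mono (mulR a F), Category.assoc, psi_fac, ← Category.assoc, lam, kernel.lift_ι, mulR_natural]

instance epi_theta : Epi (theta φ a) := by
  haveI := (twSeq (S := ShortComplex.mk (kernel.ι φ) φ (kernel.condition φ))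
    { exact := ShortComplex.exact_of_f_is_kernel _ (kernelIsKernel φ) } 1).epi_g
  exact epi_comp _ _

instance epi_psi : Epi (psi φ a) := by
  haveI : Epi (lam φ a ≫ psi φ a) := by rw [lam_psi]; infer_instance
  exact epi_of_epi (lam φ a) _

theorem nonempty_kerPsi : Nonempty (kernel (psi φ a) ≅ tw (kernel φ) 1) := by
  have hG : (ShortComplex.mk (kernel.ι φ) φ (kernel.condition φ)).ShortExact :=
    { exact := ShortComplex.exact_of_f_is_kernel _ (kernelIsKernel φ) }
  have h1 := twSeq hG 1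
  haveI := h1.mono_f
  let e1 : tw (kernel φ) 1 ≅ kernel (twm φ 1) :=
    IsLimit.conePointUniqueUpToIso h1.fIsKernel (limit.isLimit _)
  have hc : kernel.ι (twm φ 1) ≫ theta φ a = 0 := by rw [← Category.assoc, kernel.condition, zero_comp]
  have h2 : kernel.lift (theta φ a) (kernel.ι (twm φ 1)) hc ≫ psi φ a = 0 := by
    rw [← cancel_mono (mulR a F), Category.assoc, psi_fac, ← Category.assoc, kernel.lift_ι, kernel.condition,
      zero_comp]
  have h3 : (kernel.ι (psi φ a) ≫ kernel.ι (theta φ a)) ≫ twm φ 1 = 0 := by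
    rw [Category.assoc, ← psi_fac, ← Category.assoc, kernel.condition, zero_comp]
  exact ⟨{ hom := kernel.lift _ _ h3
           inv := kernel.lift _ _ h2
           hom_inv_id := by
             rw [← cancel_mono (kernel.ι (psi φ a)), ← cancel_mono (kernel.ι (theta φ a))]
             simp
           inv_hom_id := by rw [← cancel_mono (kernel.ι (twm φ 1))]; simp } ≪≫ e1.symm⟩

/-- The map between the two kernels. -/
def gam : kernel φ ⟶ kernel (psi φ a) :=
  kernel.lift _ (kernel.ι φ ≫ lam φ a) (by rw [Category.assoc, lam_psi, kernel.condition])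

variable {m : ℕ} (hK : PnReg.Reg (kernel (theta φ a)) (m : ℤ))

include hF hK in
/-- The quotient is regular. -/
theorem hh_quot (t : ℤ) (q : ℕ) (hq : 1 ≤ q) (ht : (m : ℤ) - q ≤ t) :
    Subsingleton (Coh.HH PS (tw F t) q) := by
  haveI := CohFinite.isNoetherian_projSpace n k
  have hE := isCoh_tw (NegFilt.isCoh_freeMod (X := PS) r) 1
  have hF1 := isCoh_tw hF 1
  have hQ : Coh.IsCoh (cokernel (mulR a F)) := Groth.Agent.QC.isCoh_cokernel hF.1 hF1 _
  have hKq : Coh.IsQCoh (kernel (theta φ a)) := (Groth.Agent.QC.isCoh_kernel hE hQ.1 _).1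
  have hD : (ShortComplex.mk (kernel.ι (theta φ a)) (theta φ a) (kernel.condition _)).ShortExact :=
    { exact := ShortComplex.exact_of_f_is_kernel _ (kernelIsKernel _) }
  have hC : (ShortComplex.mk (mulR a F) (cokernel.π (mulR a F)) (cokernel.condition _)).ShortExact :=
    { exact := ShortComplex.exact_cokernel _, mono_f := inferInstance, epi_g := inferInstanceAs (Epi (cokernel.π _)) }
  refine injective_of_chain hF q hq ((m : ℤ) - q) (fun t ht hv => ?_) t ht
  have hv' : Subsingleton (Coh.HH PS (tw (tw F 1) t) q) :=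
    PnReg.hh_twist_twist F 1 t (t + 1) (add_comm 1 t) q hv
  obtain ⟨p, rfl⟩ : ∃ p, q = p + 1 := ⟨q - 1, by omega⟩
  refine subsingleton_of_forall_eq 0 fun x => ?_
  obtain ⟨y, hy⟩ := (map_f_eq_zero_iff (shortExact_toAb (twSeq hC t)) p x).1 (hv'.elim _ _)
  rw [← hy]
  refine (δH_eq_zero_iff (shortExact_toAb (twSeq hC t)) p y).2 ?_
  rcases Nat.eq_zero_or_pos p with hp | hp
  · subst hp
    have hK1 : Subsingleton (Coh.HH PS (tw (kernel (theta φ a)) t) 1) := hh_reg hKq hK t 1 le_rfl ht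
    obtain ⟨w, hw⟩ := (δH_eq_zero_iff (shortExact_toAb (twSeq hD t)) 0 y).1 (hK1.elim _ _)
    refine ⟨hhMap k (twm (twm φ 1) t) 0 w, ?_⟩
    show hhMap k (twm (cokernel.π (mulR a F)) t) 0 (hhMap k (twm (twm φ 1) t) 0 w) = y
    rw [← hhMap_comp, ← tmap_comp]
    exact hw
  · have hQv : Subsingleton (Coh.HH PS (tw (cokernel (mulR a F)) t) p) :=
      CohFinite.subsingleton_of_shortExact (twSeq hD t) p
        (PnReg.hh_twist_twist _ 1 t (t + 1) (add_comm 1 t) p (hh_free r _ p hp (by omega)))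
        (hh_reg hKq hK t (p + 1) (by omega) ht)
    exact ⟨0, (hQv.elim _ _)⟩

theorem seqA : (ShortComplex.mk (kernel.ι φ) φ (kernel.condition φ)).ShortExact :=
  { exact := ShortComplex.exact_of_f_is_kernel _ (kernelIsKernel φ), epi_g := inferInstanceAs (Epi φ) }

theorem seqB : (ShortComplex.mk (kernel.ι (psi φ a)) (psi φ a) (kernel.condition _)).ShortExact :=
  { exact := ShortComplex.exact_of_f_is_kernel _ (kernelIsKernel _), epi_g := inferInstanceAs (Epi (psi φ a)) }

/-- The dimension of the first cohomology of a twist of the kernel. -/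
abbrev dimH (t : ℤ) : ℕ := Module.finrank k (Coh.HH PS (tw (kernel φ) t) 1)

/-- The comparison map in first cohomology. -/
abbrev tau (t : ℤ) : Coh.HH PS (tw (kernel φ) t) 1 →ₗ[k] Coh.HH PS (tw (kernel (psi φ a)) t) 1 :=
  hhMap k (twm (gam φ a) t) 1

/-- The map of twisted short exact sequences. -/
def seqMap (t : ℤ) :
    ShortComplex.mk (twm (kernel.ι φ) t) (twm φ t) (by rw [← tmap_comp, kernel.condition, tmap_zero]) ⟶
      ShortComplex.mk (twm (kernel.ι (psi φ a)) t) (twm (psi φ a) t)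
        (by rw [← tmap_comp, kernel.condition, tmap_zero]) :=
  ShortComplex.homMk (twm (gam φ a) t) (twm (lam φ a) t) (𝟙 _)
    (by simp only [twm, ← tmap_comp]; rw [gam, kernel.lift_ι])
    (by simp only [twm, Category.comp_id, ← tmap_comp]; rw [lam_psi])

theorem delta_eq (t : ℤ) (y : Coh.HH PS (tw F t) 0) :
    hhδ k (twSeq (seqB φ a) t) 0 y = tau φ a t (hhδ k (twSeq (seqA φ) t) 0 y) := by
  refine Eq.trans ?_ (δH_natural (shortExact_toAb (twSeq (seqA φ) t)) (shortExact_toAb (twSeq (seqB φ a) t))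
    ((CohQC.toAbF PS).mapShortComplex.map (seqMap φ a t)) 0 y)
  show hhδ k (twSeq (seqB φ a) t) 0 y = hhδ k (twSeq (seqB φ a) t) 0 (hhMap k (𝟙 (tw F t)) 0 y)
  rw [hhMap_id]

theorem surjective_deltaA (t : ℤ) (ht : -1 ≤ t) : Function.Surjective (hhδ k (twSeq (seqA φ) t) 0) := fun x =>
  (map_f_eq_zero_iff (shortExact_toAb (twSeq (seqA φ) t)) 0 x).1
    ((hh_free r t 1 le_rfl (by simpa using ht)).elim _ _)

include hF in
theorem isCoh_kerTheta : Coh.IsCoh (kernel (theta φ a)) :=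
  haveI := CohFinite.isNoetherian_projSpace n k
  Groth.Agent.QC.isCoh_kernel (isCoh_tw (NegFilt.isCoh_freeMod (X := PS) r) 1)
    (Groth.Agent.QC.isCoh_cokernel hF.1 (isCoh_tw hF 1) _).1 _

include hF hK in
theorem surjective_deltaB (t : ℤ) (ht : (m : ℤ) ≤ t) :
    Function.Surjective (hhδ k (twSeq (seqB φ a) t) 0) := fun x =>
  (map_f_eq_zero_iff (shortExact_toAb (twSeq (seqB φ a) t)) 0 x).1
    ((hh_reg (isCoh_kerTheta φ hF a).1 hK t 1 le_rfl (by omega)).elim _ _)

include hF hK in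
theorem surjective_tau (t : ℤ) (ht : (m : ℤ) ≤ t) : Function.Surjective (tau φ a t) := fun x => by
  obtain ⟨y, hy⟩ := surjective_deltaB φ hF a hK t ht x
  exact ⟨_, (delta_eq φ a t y).symm.trans hy⟩

theorem finrank_kerPsi (t : ℤ) :
    Module.finrank k (Coh.HH PS (tw (kernel (psi φ a)) t) 1) = dimH φ (t + 1) := by
  obtain ⟨e⟩ := nonempty_kerPsi φ a
  obtain ⟨e'⟩ := PnReg.nonempty_twistF (kernel φ) 1 t (t + 1) (add_comm 1 t)
  exact CurveRR.h_eq_of_iso (k := k) (PicGrp.tensorModIso e (Iso.refl _) ≪≫ e') 1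

include hF in
theorem finite_hh_ker (t : ℤ) : Module.Finite k (Coh.HH PS (tw (kernel φ) t) 1) :=
  haveI := CohFinite.isNoetherian_projSpace n k
  CohFinite.finite_proper k PS _
    (isCoh_tw (Groth.Agent.QC.isCoh_kernel (NegFilt.isCoh_freeMod (X := PS) r) hF.1 φ) t) 1

include hF in
theorem finite_hh_kerPsi (t : ℤ) : Module.Finite k (Coh.HH PS (tw (kernel (psi φ a)) t) 1) :=
  haveI := CohFinite.isNoetherian_projSpace n k
  CohFinite.finite_proper k PS _
    (isCoh_tw (Groth.Agent.QC.isCoh_kernel (isCoh_kerTheta φ hF a) hF.1 _) t) 1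

include hF hK in
theorem dimH_le (t : ℤ) (ht : (m : ℤ) ≤ t) : dimH φ (t + 1) ≤ dimH φ t := by
  haveI := finite_hh_ker φ hF t
  rw [← finrank_kerPsi φ a t]
  exact LinearMap.finrank_le_finrank_of_surjective (surjective_tau φ hF a hK t ht)

include hF hK in
theorem range_of_eq (t : ℤ) (ht : (m : ℤ) ≤ t) (heq : dimH φ (t + 1) = dimH φ t)
    (y : Γ(tw (kernel (theta φ a)) t, ⊤)) : ∃ e, (twm φ t).app ⊤ e = (twm (psi φ a) t).app ⊤ y := by
  haveI := finite_hh_ker φ hF t
  haveI := finite_hh_kerPsi φ hF a t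
  have hinj : Function.Injective (tau φ a t) :=
    (LinearMap.injective_iff_surjective_of_finrank_eq_finrank
      (((finrank_kerPsi φ a t).trans heq).symm)).2 (surjective_tau φ hF a hK t ht)
  obtain ⟨z, rfl⟩ := (sec0 _).surjective y
  have h0 : hhδ k (twSeq (seqB φ a) t) 0 (hhMap k (twm (psi φ a) t) 0 z) = 0 :=
    (δH_eq_zero_iff (shortExact_toAb (twSeq (seqB φ a) t)) 0 _).2 ⟨z, rfl⟩
  rw [delta_eq] at h0
  obtain ⟨w, hw⟩ := (δH_eq_zero_iff (shortExact_toAb (twSeq (seqA φ) t)) 0 _).1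
    (hinj (h0.trans (map_zero _).symm))
  exact ⟨sec0 _ w, ((sec0_map (twm φ t) w).trans (congrArg (sec0 _) hw)).trans (sec0_map _ z).symm⟩

include hF hK in
theorem eq_of_range (t : ℤ) (ht : (m : ℤ) ≤ t)
    (h : ∀ y, ∃ e, (twm φ t).app ⊤ e = (twm (psi φ a) t).app ⊤ y) : dimH φ (t + 1) = dimH φ t := by
  have hinj : Function.Injective (tau φ a t) := by
    rw [← LinearMap.ker_eq_bot, LinearMap.ker_eq_bot']
    intro x hx
    obtain ⟨y, rfl⟩ := surjective_deltaA φ t (by omega) x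
    obtain ⟨z, hz⟩ := (δH_eq_zero_iff (shortExact_toAb (twSeq (seqB φ a) t)) 0 y).1
      ((delta_eq φ a t y).trans hx)
    obtain ⟨e, he⟩ := h (sec0 _ z)
    obtain ⟨w, rfl⟩ := (sec0 _).surjective e
    rw [sec0_map, sec0_map] at he
    exact (δH_eq_zero_iff (shortExact_toAb (twSeq (seqA φ) t)) 0 y).2 ⟨w, ((sec0 _).injective he).trans hz⟩
  rw [← finrank_kerPsi φ a t]
  exact (LinearEquiv.ofBijective (tau φ a t) ⟨hinj, surjective_tau φ hF a hK t ht⟩).finrank_eq.symm

include hF hK in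
theorem eq_succ_of_eq (t : ℤ) (ht : (m : ℤ) ≤ t) (heq : dimH φ (t + 1) = dimH φ t) :
    dimH φ (t + 1 + 1) = dimH φ (t + 1) := by
  have hKc := isCoh_kerTheta φ hF a
  refine eq_of_range φ hF a hK (t + 1) (by omega)
    (range_propagate (psi φ a) φ t (fun v => ?_) (range_of_eq φ hF a hK t ht heq))
  obtain ⟨e, he⟩ : ∃ e : ℕ, t = (m : ℤ) + e := ⟨(t - m).toNat, by omega⟩
  refine PnReg.surjective_one _ (isCoh_tw hKc t).1 ?_ v
  have := PnReg.reg_twist (PnReg.reg_add hKc.1 hK e) t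
  rwa [← he, sub_self] at this

/-- A sequence that decreases until it stops, and stops only at zero. -/
theorem le_sub_of_stable (A : ℤ → ℕ) (m : ℤ) (hmono : ∀ t, m ≤ t → A (t + 1) ≤ A t)
    (hprop : ∀ t, m ≤ t → A (t + 1) = A t → A (t + 1 + 1) = A (t + 1))
    (T : ℤ) (hT : ∀ t, T ≤ t → A t = 0) : ∀ j : ℕ, A (m + j) ≤ A m - j := by
  have hstable : ∀ t, m ≤ t → A (t + 1) = A t → A t = 0 := fun t ht heq => by
    have hall : ∀ j : ℕ, A (t + j + 1) = A (t + j) ∧ A (t + j) = A t := fun j => by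
      induction j with
      | zero => simpa using heq
      | succ j ih =>
        have h1 := hprop (t + j) (by omega) ih.1
        push_cast
        rw [← add_assoc]
        exact ⟨h1, ih.1.trans ih.2⟩
    rw [← (hall (T - t).toNat).2]
    exact hT _ (by omega)
  intro j
  induction j with
  | zero => simp
  | succ j ih =>
    rcases eq_or_lt_of_le (hmono (m + j) (by omega)) with he | hl
    · have h2 := hstable _ (by omega) he
      push_cast
      rw [← add_assoc]
      omega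
    · push_cast
      rw [← add_assoc]
      omega

variable (P : Polynomial ℚ)
  (hP : ∀ t : ℤ, (Curv2.euler k (CohB1.ProjSpace n k) (tw F t) : ℚ) = P.eval (t : ℚ))

include hF hK hP in
theorem dimH_le_ceil : dimH φ m ≤ ⌈P.eval (m : ℚ)⌉.toNat := by
  haveI := CohFinite.finite_proper k PS _ (isCoh_tw hF m) 0
  have h1 : dimH φ m ≤ CurveRR.h k (tw F m) 0 :=
    LinearMap.finrank_le_finrank_of_surjective (surjective_deltaA φ m (by omega))
  have h2 : Curv2.euler k PS (tw F m) = CurveRR.h k (tw F m) 0 := by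
    rw [CurveRR.euler_eq_sum (tw F m) 1 fun i hi => hh_quot φ hF a hK m i hi (by omega)]
    simp
  have h3 : P.eval (m : ℚ) = (CurveRR.h k (tw F m) 0 : ℚ) := by
    have := hP m
    rw [h2] at this
    simpa using this.symm
  rw [h3, Int.ceil_natCast]
  simpa using h1

include hF hK hP in
/-- The kernel of the quotient is regular, with a bound depending only on the polynomial. -/
theorem reg_kernel : PnReg.Reg (kernel φ) ((m + ⌈P.eval (m : ℚ)⌉.toNat + 1 : ℕ) : ℤ) := by
  haveI := CohFinite.isNoetherian_projSpace n k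
  obtain ⟨T, hT⟩ := eventually_vanish (Groth.Agent.QC.isCoh_kernel (NegFilt.isCoh_freeMod (X := PS) r) hF.1 φ)
  intro q hq
  rcases Nat.lt_or_ge q 2 with hq1 | hq2
  · obtain rfl : q = 1 := by omega
    haveI := finite_hh_ker φ hF (((m + ⌈P.eval (m : ℚ)⌉.toNat + 1 : ℕ) : ℤ) - (1 : ℕ))
    refine Module.finrank_zero_iff.1 (?_ : dimH φ _ = 0)
    rw [show ((m + ⌈P.eval (m : ℚ)⌉.toNat + 1 : ℕ) : ℤ) - (1 : ℕ) =
      (m : ℤ) + ⌈P.eval (m : ℚ)⌉.toNat by push_cast; ring]
    have h4 := le_sub_of_stable (dimH φ) (m : ℤ) (dimH_le φ hF a hK) (eq_succ_of_eq φ hF a hK) T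
      (fun t ht => CurveRR.h_eq_zero (hT t ht 1 le_rfl)) ⌈P.eval (m : ℚ)⌉.toNat
    have h5 := dimH_le_ceil φ hF a hK P hP
    omega
  · obtain ⟨p, rfl⟩ : ∃ p, q = p + 1 := ⟨q - 1, by omega⟩
    exact subsingleton_X1 (twSeq (seqA φ) _) p (hh_free r _ (p + 1) (by omega) (by omega))
      (hh_quot φ hF a hK _ p (by omega) (by omega))

end Step

end Groth.Agent.MumBound
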